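import Groth.Agent.Lib.GrpCM20.Basic
import Groth.Agent.Lib.CurveLocus.GeomFibre
import Groth.Agent.Lib.AbRigid.FlatFibre
import Groth.Agent.Lib.FlatH4.SmoothFibres
import Groth.Agent.Lib.AffPart25.Largest
import Groth.Agent.Lib.MTRigid29.MonoClosedGlobal
import Groth.Agent.Lib.BorelFix21.Borels
import Groth.Agent.Lib.TorPts21.ParabolicNormalizer
import Groth.Agent.Lib.SchBasic.Basic

/-!
# Minimal parabolic subgroups over a connected base
-/

set_option autoImplicit false
set_option linter.style.haveILetI false
set_option backward.isDefEq.respectTransparency false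
set_option backward.isDefEq.respectTransparency.types false
set_option maxHeartbeats 1000000
set_option maxSynthPendingDepth 3

universe u

open CategoryTheory CategoryTheory.Limits MonoidalCategory CartesianMonoidalCategory MonObj AlgebraicGeometry

noncomputable section

namespace Groth.Agent.MinPar15

variable {S : Scheme.{u}}

/-- The dimension of a geometric fibre. -/
theorem dim_geomFibre (X : Over S) [LocallyOfFiniteType X.hom] (s : S) :
    topologicalKrullDim ↥(Red.geomFibre s X).left = topologicalKrullDim ↥(X.hom.base ⁻¹' {s}) := by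
  rw [← (X.hom.fiberHomeo s).isHomeomorph.topologicalKrullDim_eq]
  let σ := Spec.map (CommRingCat.ofHom (algebraMap (S.residueField s) (AlgebraicClosure (S.residueField s))))
  let pr : (Red.geomFibre s X).left ⟶ X.hom.fiber s :=
    pullback.lift (pullback.fst X.hom (Red.geomPt s)) (pullback.snd X.hom (Red.geomPt s) ≫ σ) (by
      rw [pullback.condition, Category.assoc])
  haveI : LocallyOfFiniteType (X.hom.fiberToSpecResidueField s) :=
    inferInstanceAs (LocallyOfFiniteType (pullback.snd X.hom (S.fromSpecResidueField s)))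
  refine CurveLocus.topologicalKrullDim_bc (X.hom.fiberToSpecResidueField s) (pr := pr)
    (q := pullback.snd X.hom (Red.geomPt s)) (σ := σ) ?_
  refine IsPullback.of_right ?_ (pullback.lift_snd _ _ _) (IsPullback.of_hasPullback X.hom (S.fromSpecResidueField s))
  rw [pullback.lift_fst]
  exact IsPullback.of_hasPullback X.hom (Red.geomPt s)

theorem isParabolic_id {G : Over S} [GrpObj G] (hG : Red.IsReductive G) : Red.IsParabolic (𝟙 G) := by
  refine ⟨inferInstance, inferInstanceAs (IsClosedImmersion (𝟙 G.left)), hG.2.1, fun s => ?_⟩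
  obtain ⟨ha, hs, hc, -⟩ := hG.2.2 s
  haveI := ha; haveI := hs; haveI := hc
  obtain ⟨B, _, b, hb, -⟩ := BorelFix21.exists_isBorelOver (Red.geomFibre s G)
  refine ⟨inferInstance, ?_, hs, B, inferInstance, b, ?_⟩
  · rw [(Over.pullback (Red.geomPt s)).map_id]
    exact inferInstanceAs (IsClosedImmersion (𝟙 _))
  · rw [(Over.pullback (Red.geomPt s)).map_id, Category.comp_id]
    exact hb

/-- An inclusion of parabolic subgroups with fibres of the same dimension is an equality. -/
theorem isIso_of_dim_eq {G P P₁ : Over S} [GrpObj G] [GrpObj P] [GrpObj P₁] (hG : Red.IsReductive G)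
    {p : P ⟶ G} {p₁ : P₁ ⟶ G} (hp : Red.IsParabolic p) (hp₁ : Red.IsParabolic p₁) (f : P₁ ⟶ P) (hf : f ≫ p = p₁)
    (hdim : ∀ s : S, topologicalKrullDim ↥(P₁.hom.base ⁻¹' {s}) = topologicalKrullDim ↥(P.hom.base ⁻¹' {s})) :
    IsIso f := by
  obtain ⟨hpm, hpc, hps, hpg⟩ := id hp
  obtain ⟨hpm₁, hpc₁, hps₁, hpg₁⟩ := id hp₁
  haveI := hpm; haveI := hpc; haveI := hps
  haveI := hpm₁; haveI := hpc₁; haveI := hps₁
  haveI : IsClosedImmersion (f.left ≫ p.left) := by rw [← Over.comp_left, hf]; infer_instance
  haveI : IsClosedImmersion f.left := IsClosedImmersion.of_comp f.left p.left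
  have hfib : ∀ s : S, IsIso (AbRigid.fibreMap f s).left := fun s => by
    let F := Over.pullback (S.fromSpecResidueField s)
    let σ := Spec.map (CommRingCat.ofHom (algebraMap (S.residueField s) (AlgebraicClosure (S.residueField s))))
    let W := Over.pullback (Red.geomPt s)
    haveI : IsIso (W.map f) := by
      obtain ⟨hga, hgs, hgc, -⟩ := hG.2.2 s
      haveI := hga; haveI := hgs; haveI := hgc
      haveI : Smooth (W.obj P).hom := MorphismProperty.pullback_snd (P := @Smooth) _ _ hps
      haveI : IsClosedImmersion (W.map f).left :=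
        MorphismProperty.of_isPullback (P := @IsClosedImmersion) (MTRigid29.isPullback_map_left (Red.geomPt s) f) inferInstance
      haveI : ConnectedSpace (W.obj P).left := TorPts21.connectedSpace_of_isParabolicOver (hpg s)
      refine AffPart25.isIso_of_dim_le (W.map f) ?_
      rw [dim_geomFibre P s, dim_geomFibre P₁ s, hdim s]
    haveI : IsIso (W.map f).left := inferInstanceAs (IsIso ((Over.forget _).map (W.map f)))
    let e := Over.pullbackComp σ (S.fromSpecResidueField s)
    haveI : IsIso ((Over.pullback σ).map (F.map f)) := by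
      have h := e.hom.naturality f
      haveI : IsIso ((F ⋙ Over.pullback σ).map f) := by
        rw [← IsIso.inv_hom_id_assoc (e.hom.app P₁) ((F ⋙ Over.pullback σ).map f), ← h]
        infer_instance
      exact ‹IsIso ((F ⋙ Over.pullback σ).map f)›
    haveI : IsIso ((Over.pullback σ).map (F.map f)).left :=
      inferInstanceAs (IsIso ((Over.forget _).map ((Over.pullback σ).map (F.map f))))
    haveI : Surjective σ := ⟨fun y => ⟨Classical.arbitrary _, Subsingleton.elim (α := PrimeSpectrum _) _ _⟩⟩
    have hsq := MTRigid29.isPullback_map_left σ (F.map f)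
    exact MorphismProperty.of_isPullback_of_descendsAlong (P := MorphismProperty.isomorphisms Scheme.{u})
      (Q := @Surjective ⊓ @Flat ⊓ @QuasiCompact) hsq.flip
      ⟨⟨MorphismProperty.pullback_fst (P := @Surjective) _ _ inferInstance,
        MorphismProperty.pullback_fst (P := @Flat) _ _ inferInstance⟩,
        MorphismProperty.pullback_fst (P := @QuasiCompact) _ _ inferInstance⟩ ‹_›
  haveI : LocallyOfFinitePresentation (f.left ≫ P.hom) := by rw [Over.w]; infer_instance
  haveI : Flat (f.left ≫ P.hom) := by rw [Over.w]; infer_instance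
  haveI : Flat f.left := FlatH4.flat_of_fibres f.left P.hom fun s => by
    haveI := hfib s
    exact (AbRigid.fibre_iff f s @Flat).2 inferInstance
  haveI : LocallyOfFinitePresentation f.left := SchBasic.locallyOfFinitePresentation_of_comp f.left P.hom
  haveI : IsOpenImmersion f.left := IsOpenImmersion.of_flat_of_mono f.left
  haveI : Surjective f.left := ⟨fun y => by
    obtain ⟨y', hy'⟩ : y ∈ Set.range (P.hom.fiberι (P.hom y)) := by rw [Scheme.Hom.range_fiberι]; rfl
    haveI := hfib (P.hom y)
    obtain ⟨x, hx⟩ := (AbRigid.fibreMap f (P.hom y)).left.homeomorph.surjective y'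
    refine ⟨P₁.hom.fiberι (P.hom y) x, ?_⟩
    rw [← Scheme.Hom.comp_apply, (AbRigid.isPullback_fibreMap f (P.hom y)).w, Scheme.Hom.comp_apply]
    exact (congrArg _ hx).trans hy'⟩
  haveI : IsIso f.left := (isIso_iff_isOpenImmersion_and_surjective f.left).2 ⟨inferInstance, inferInstance⟩
  haveI : IsIso ((Over.forget _).map f) := ‹IsIso f.left›
  exact isIso_of_reflects_iso f (Over.forget _)

theorem exists_minimal [ConnectedSpace ↥S] {G : Over S} [GrpObj G] (hG : Red.IsReductive G) :
    ∃ (P : Over S) (_ : GrpObj P) (p : P ⟶ G), Red.IsParabolic p ∧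
      ∀ (P₁ : Over S) [GrpObj P₁] (p₁ : P₁ ⟶ G) (f : P₁ ⟶ P), Red.IsParabolic p₁ → f ≫ p = p₁ → IsIso f := by
  obtain ⟨s₀⟩ : Nonempty S := inferInstance
  let d : ∀ (P : Over S), WithBot ℕ∞ := fun P => topologicalKrullDim ↥(P.hom.base ⁻¹' {s₀})
  let T : Set (WithBot ℕ∞) := {e | ∃ (P : Over S) (_ : GrpObj P) (p : P ⟶ G), Red.IsParabolic p ∧ d P = e}
  have hne : T.Nonempty := ⟨d G, G, inferInstance, 𝟙 G, isParabolic_id hG, rfl⟩
  obtain ⟨P, _, p, hp, hPd⟩ := WellFounded.min_mem (wellFounded_lt (α := WithBot ℕ∞)) T hne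
  refine ⟨P, inferInstance, p, hp, fun P₁ _ p₁ f hp₁ hf => isIso_of_dim_eq hG hp hp₁ f hf fun s => ?_⟩
  haveI := hp.2.2.1; haveI := hp₁.2.2.1
  haveI := hp.2.1; haveI := hp₁.2.1
  haveI : IsClosedImmersion (f.left ≫ p.left) := by rw [← Over.comp_left, hf]; infer_instance
  haveI : IsClosedImmersion f.left := IsClosedImmersion.of_comp f.left p.left
  have h0 : d P₁ = d P := by
    refine le_antisymm ?_ ?_
    · let φ : ↥(P₁.hom.base ⁻¹' {s₀}) → ↥(P.hom.base ⁻¹' {s₀}) :=
        fun x => ⟨f.left x.1, by
          show P.hom (f.left x.1) = s₀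
          rw [← Scheme.Hom.comp_apply, Over.w f]
          exact x.2⟩
      have hφ : Topology.IsInducing φ := by
        refine Topology.IsInducing.of_comp ?_ continuous_subtype_val ?_
        · exact (f.left.continuous.comp continuous_subtype_val).subtype_mk _
        · exact f.left.isClosedEmbedding.isInducing.comp Topology.IsInducing.subtypeVal
      exact hφ.topologicalKrullDim_le
    · rw [hPd]
      exact WellFounded.min_le wellFounded_lt (show d P₁ ∈ T from ⟨P₁, inferInstance, p₁, hp₁, rfl⟩)
  rw [(GrpCM20.isLocallyConstant_dim S P₁).apply_eq_of_preconnectedSpace s s₀,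
    (GrpCM20.isLocallyConstant_dim S P).apply_eq_of_preconnectedSpace s s₀]
  exact h0

end Groth.Agent.MinPar15
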